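import Groth.Agent.Lib.Chow.Core
import Groth.Prelude.Def_Magnet3
import Mathlib.AlgebraicGeometry.Morphisms.SchemeTheoreticallyDominant
import Mathlib.AlgebraicGeometry.Morphisms.ClosedImmersion
import Mathlib.CategoryTheory.Limits.Types.Pullbacks

/-! # Equivariant maps into closed subschemes -/

set_option autoImplicit false
set_option backward.isDefEq.respectTransparency false

universe u

open CategoryTheory CategoryTheory.Limits AlgebraicGeometry MonoidalCategory CartesianMonoidalCategory Opposite
open scoped MonObj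

noncomputable section

namespace GrothLib.MagnetClosed

variable {S : Scheme.{u}}

/-- A morphism whose restriction to a scheme-theoretically dominant source lands in a closed subscheme lands there. -/
theorem exists_factor {W P Y Z : Over S} (e : Z ⟶ Y) [IsClosedImmersion e.left] (jj : W ⟶ P)
    [IsSchemeTheoreticallyDominant jj.left] (φ : P ⟶ Y) (s : W ⟶ Z) (h : jj ≫ φ = s ≫ e) :
    ∃ l : P ⟶ Z, l ≫ e = φ := by
  let q := pullback.snd e.left φ.left
  haveI : IsClosedImmersion q := MorphismProperty.pullback_snd _ _ inferInstance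
  let r : W.left ⟶ pullback e.left φ.left := pullback.lift s.left jj.left (congrArg CommaMorphism.left h).symm
  haveI : IsIso q := Chow.isIso_of_factors jj.left q r (pullback.lift_snd _ _ _)
  have hl : (inv q ≫ pullback.fst e.left φ.left) ≫ e.left = φ.left := by
    rw [Category.assoc, pullback.condition, IsIso.inv_hom_id_assoc]
  refine ⟨Over.homMk (inv q ≫ pullback.fst e.left φ.left) ?_, Over.OverMorphism.ext hl⟩
  rw [← Over.w e, ← Category.assoc, hl, Over.w φ]

theorem mono_of_left {Z Y : Over S} (e : Z ⟶ Y) [Mono e.left] : Mono e :=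
  (Over.forget S).mono_of_mono_map (inferInstanceAs (Mono e.left))

variable {A B : Over S} [MonObj A]

/-- Lifting equivariant maps along an equivariant monomorphism. -/
theorem isEquivariant_of_comp_mono {X Y Z : Over S} {ρ : Magnet.MonAct A X} {a : Magnet.MonAct A Z}
    {b : Magnet.MonAct A Y} {l : X ⟶ Z} {e : Z ⟶ Y} [Mono e] (he : Magnet.MonAct.IsEquivariant a b e)
    (h : Magnet.MonAct.IsEquivariant ρ b (l ≫ e)) : Magnet.MonAct.IsEquivariant ρ a l := by
  unfold Magnet.MonAct.IsEquivariant at he h ⊢
  rw [← cancel_mono e, Category.assoc, Category.assoc, h, he, whiskerLeft_comp, Category.assoc]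

/-- The pullback property of the functors of equivariant maps along an equivariant closed immersion, the monoid
acting through a map `jj : A ⟶ B` with scheme-theoretically dominant base changes. -/
theorem isPullback_postcomp (ρ : Magnet.MonAct A B) (e₀ : 𝟙_ (Over S) ⟶ B) (jj : A ⟶ B)
    (hjj : ∀ (T : Over S) (g : T ⟶ A), lift g (toUnit T ≫ e₀) ≫ ρ.act = g ≫ jj)
    (hdom : ∀ T : Over S, IsSchemeTheoreticallyDominant (jj ▷ T).left)
    {Y Z : Over S} (aY : Magnet.MonAct A Y) (aZ : Magnet.MonAct A Z) (e : Z ⟶ Y) [IsClosedImmersion e.left]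
    (he : Magnet.MonAct.IsEquivariant aZ aY e) :
    IsPullback (Magnet.MonAct.eqvHom.postcomp ρ e he) (Magnet.MonAct.eqvHom.evalAt ρ aZ e₀)
      (Magnet.MonAct.eqvHom.evalAt ρ aY e₀) (yoneda.map e) := by
  have := mono_of_left e
  have hw : ∀ T, (Magnet.MonAct.eqvHom.postcomp ρ e he ≫ Magnet.MonAct.eqvHom.evalAt ρ aY e₀).app T =
      (Magnet.MonAct.eqvHom.evalAt ρ aZ e₀ ≫ yoneda.map e).app T := fun T => by
    ext φ
    change lift (toUnit _ ≫ e₀) (𝟙 _) ≫ φ.1 ≫ e = (lift (toUnit _ ≫ e₀) (𝟙 _) ≫ φ.1) ≫ e
    rw [Category.assoc]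
  refine IsPullback.of_forall_isPullback_app fun T => ?_
  refine (Types.isPullback_iff _ _ _ _).2 ⟨hw T, fun φ ψ h => ?_, fun φ z h => ?_⟩
  · exact Subtype.ext ((cancel_mono e).1 (congrArg Subtype.val h.1))
  · have hs : (jj ▷ T.unop) ≫ φ.1 = ((A ◁ z) ≫ aZ.act) ≫ e := by
      apply Magnet.hom_ext_lift₂
      intro T' g t
      have h1 := (Magnet.MonAct.mem_eqvHom_iff φ.1).1 φ.2 T' g (toUnit T' ≫ e₀) t
      rw [hjj] at h1
      rw [lift_whiskerRight_assoc, h1]
      have h' : lift (toUnit T.unop ≫ e₀) (𝟙 T.unop) ≫ φ.1 = z ≫ e := h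
      have h2 : lift (toUnit T' ≫ e₀) t ≫ φ.1 = t ≫ z ≫ e := by
        rw [← h', comp_lift_assoc, Category.comp_id, ← Category.assoc t,
          show t ≫ toUnit T.unop = toUnit T' from toUnit_unique _ _]
      rw [h2, Category.assoc, lift_whiskerLeft_assoc, (Magnet.MonAct.isEquivariant_iff _ _ _).1 he,
        Category.assoc]
    have := hdom T.unop
    obtain ⟨l, hl⟩ := exists_factor e (jj ▷ T.unop) φ.1 _ hs
    refine ⟨⟨l, isEquivariant_of_comp_mono he (hl.symm ▸ φ.2)⟩, Subtype.ext hl, ?_⟩
    apply (cancel_mono e).1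
    change (lift (toUnit _ ≫ e₀) (𝟙 _) ≫ l) ≫ e = z ≫ e
    rw [Category.assoc, hl]
    exact h

/-- Over a field, a quasi-compact scheme-theoretically dominant morphism stays so after base change. -/
theorem isSTD_whiskerRight_field {k : Type u} [Field k] {G M : Over (Spec (CommRingCat.of k))} (i : G ⟶ M)
    [IsSchemeTheoreticallyDominant i.left] [QuasiCompact i.left] (T : Over (Spec (CommRingCat.of k))) :
    IsSchemeTheoreticallyDominant (i ▷ T).left := by
  have h₁ : IsPullback (fst M T).left (snd M T).left M.hom T.hom := IsPullback.of_hasPullback _ _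
  have h₂ : IsPullback (fst G T).left (snd G T).left G.hom T.hom := IsPullback.of_hasPullback _ _
  have e₁ : (i ▷ T).left ≫ (fst M T).left = (fst G T).left ≫ i.left := by
    rw [← Over.comp_left, ← Over.comp_left, whiskerRight_fst]
  have e₂ : (i ▷ T).left ≫ (snd M T).left = (snd G T).left := by
    rw [← Over.comp_left, whiskerRight_snd]
  have hsq : IsPullback (fst G T).left (i ▷ T).left i.left (fst M T).left := by
    refine IsPullback.of_bot ?_ e₁.symm h₁
    rw [e₂, Over.w i]
    exact h₂
  haveI : Flat T.hom := inferInstance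
  haveI : Flat (fst M T).left := MorphismProperty.of_isPullback h₁.flip (inferInstanceAs (Flat T.hom))
  exact IsSchemeTheoreticallyDominant.of_isPullback hsq

end GrothLib.MagnetClosed
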